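import Mathlib
import Cfsg.Agent.S4127
import Cfsg.Agent.Lib.Helper41.CS3.GoodDefs
import Cfsg.Agent.Lib.Helper24.CS3.Basics
import Cfsg.Agent.Lib.Helper82.CS3.GoodHy

/-!
# CS3 (S4284), part GOOD: package [G5]

`pkgG5 : PkgG5` (`m` a prime power: the normal `s`-complement of S4127 is abelian).
-/

set_option autoImplicit false

namespace Cfsg.Agent.Lib.Helper82.CS3

open Cfsg.Agent.Lib.Helper81.CS3 Cfsg.Agent.Lib.Helper41.CS3

universe u

/-- a number `> 1` which is not a prime power is a product of two coprime numbers `> 1`. -/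
theorem exists_coprime_factors (N : ℕ) (hN : 1 < N) (hnpp : ¬ ∃ r k : ℕ, r.Prime ∧ N = r ^ k) :
    ∃ c1 c2 : ℕ, c1.Coprime c2 ∧ c1 * c2 = N ∧ 1 < c1 ∧ 1 < c2 := by
  have hp : N.minFac.Prime := Nat.minFac_prime (by omega)
  have hN0 : N ≠ 0 := by omega
  refine ⟨N.minFac ^ N.factorization N.minFac, N / N.minFac ^ N.factorization N.minFac,
    ?_, ?_, ?_, ?_⟩
  · exact Nat.Coprime.pow_left _ (Nat.coprime_ordCompl hp hN0)
  · exact Nat.ordProj_mul_ordCompl_eq_self N N.minFac
  · have hpos : 0 < N.factorization N.minFac :=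
      hp.factorization_pos_of_dvd hN0 (Nat.minFac_dvd N)
    exact Nat.one_lt_pow hpos.ne' hp.one_lt
  · by_contra hc
    have h0 : N / N.minFac ^ N.factorization N.minFac ≠ 0 :=
      (Nat.ordCompl_pos N.minFac hN0).ne'
    have h1 : N / N.minFac ^ N.factorization N.minFac = 1 :=
      le_antisymm (not_lt.mp hc) (Nat.pos_of_ne_zero h0)
    apply hnpp
    refine ⟨N.minFac, N.factorization N.minFac, hp, ?_⟩
    have h2 := Nat.ordProj_mul_ordCompl_eq_self N N.minFac
    rw [h1, mul_one] at h2
    exact h2.symm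

theorem card_mul_relIndex' {G : Type u} [Group G] {H L : Subgroup G} (h : H ≤ L) :
    Nat.card H * H.relIndex L = Nat.card L := by
  have h1 := Subgroup.relIndex_mul_relIndex (⊥ : Subgroup G) H L bot_le h
  rwa [Subgroup.relIndex_bot_left, Subgroup.relIndex_bot_left] at h1

/-- `|K : K ∩ C|` divides `|G : C|` when `K` is normal. -/
theorem relIndex_dvd_index_of_normal_right {G : Type u} [Group G] [Finite G] (C K : Subgroup G)
    [K.Normal] : C.relIndex K ∣ C.index := by
  have hA := card_mul_relIndex' (le_sup_right : K ≤ C ⊔ K)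
  have hB : K.relIndex (C ⊔ K) = K.relIndex C := Subgroup.relIndex_sup_right C K
  have hC := card_mul_relIndex' (inf_le_right : K ⊓ C ≤ C)
  rw [Subgroup.inf_relIndex_right] at hC
  have hD := card_mul_relIndex' (inf_le_left : K ⊓ C ≤ K)
  rw [Subgroup.inf_relIndex_left] at hD
  have hE := card_mul_relIndex' (le_sup_left : C ≤ C ⊔ K)
  have hd : 0 < Nat.card (K ⊓ C : Subgroup G) := Nat.card_pos
  have hcC : 0 < Nat.card C := Nat.card_pos
  have hx : 0 < K.relIndex C := by
    rcases Nat.eq_zero_or_pos (K.relIndex C) with h | h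
    · rw [h, mul_zero] at hC
      omega
    · exact h
  have hz : C.relIndex (C ⊔ K) = C.relIndex K := by
    apply Nat.eq_of_mul_eq_mul_left (Nat.mul_pos hd hx)
    rw [hC, hE, ← hA, hB, ← hD, ← hC]
    ring
  rw [← hz]
  exact Dvd.intro _ (Subgroup.relIndex_mul_index le_sup_left)

/-- [G5] -/
theorem pkgG5 : PkgG5.{u} := by
  intro G _ _ m n hyp s a hgood hjj hG4d
  obtain ⟨j, hj⟩ := hjj
  have hm := hyp.2.1
  have hn := hyp.2.2.1
  have hcop := hyp.2.2.2.1
  have hs := hgood.sp
  have : Fact s.Prime := ⟨hs⟩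
  have hsn : s.Coprime n := Nat.Coprime.coprime_dvd_left hgood.sm hcop
  have hmax : ∀ y : G, ¬ s ^ (j + 1) ∣ (Subgroup.centralizer ({y} : Set G)).index := by
    intro y hy
    rcases Cfsg.Agent.Lib.Helper24.CS3.index_mem hyp y with h | h | h
    · rw [h] at hy
      have h1 := Nat.le_of_dvd one_pos hy
      have h2 : 1 < s ^ (j + 1) := Nat.one_lt_pow (by omega) hs.one_lt
      omega
    · rw [h, hj] at hy
      have h1 := (Nat.pow_dvd_pow_iff_le_right hs.one_lt).mp hy
      omega
    · rw [h, hj, pow_succ] at hy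
      have h2 : s ∣ n := Nat.dvd_of_mul_dvd_mul_left (pow_pos hs.pos j) hy
      exact hs.one_lt.ne' (Nat.Coprime.eq_one_of_dvd hsn h2)
  have hx : ∃ x : G, (∃ k : ℕ, orderOf x = s ^ k) ∧
      (Subgroup.centralizer ({x} : Set G)).index = s ^ j :=
    ⟨a, hgood.prim, by rw [← hj]; exact hgood.ixa⟩
  obtain ⟨P, K, hKn, hKP⟩ := Cfsg.Agent.S4127.result s j hmax hx
  have hKidx : K.index = Nat.card (P : Subgroup G) := hKP.symm.index_eq_card
  have hPidx : (P : Subgroup G).index = Nat.card K := hKP.index_eq_card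
  have hKcop : (Nat.card K).Coprime s := by
    rw [← hPidx]
    exact ((Nat.Prime.coprime_iff_not_dvd hs).mpr P.not_dvd_index).symm
  -- primary elements of `K` are central in `K`
  have hprim : ∀ v ∈ K, (∃ r k : ℕ, r.Prime ∧ orderOf v = r ^ k) → K ≤ Cn v := by
    intro v hv hrk
    obtain ⟨r, k, hr, hk⟩ := hrk
    have hodvd : orderOf v ∣ Nat.card K := Subgroup.orderOf_dvd_natCard K hv
    rcases Nat.eq_zero_or_pos k with hk0 | hkpos
    · rw [hk0, pow_zero, orderOf_eq_one_iff] at hk
      intro x _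
      rw [mem_Cn_iff, hk]
      simp
    · have hrK : r ∣ Nat.card K := (dvd_pow_self r hkpos.ne').trans (hk ▸ hodvd)
      have hrs : r ≠ s := by
        intro hrs
        rw [hrs] at hrK
        exact hs.one_lt.ne' (Nat.Coprime.eq_one_of_dvd hKcop.symm hrK)
      have hrm : ¬ r ∣ m := by
        rw [hj]
        intro h
        exact hrs ((Nat.prime_dvd_prime_iff_eq hr hs).mp (hr.dvd_of_dvd_pow h))
      have hne := hG4d r v hr hrm ⟨k, hk⟩
      have hdvd : ix v ∣ s ^ j := by
        rcases Cfsg.Agent.Lib.Helper24.CS3.index_mem hyp v with h | h | h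
        · rw [show ix v = 1 from h]
          exact one_dvd _
        · rw [show ix v = m from h, hj]
        · exact absurd h hne
      have h1 : (Cn v).relIndex K ∣ s ^ j :=
        (relIndex_dvd_index_of_normal_right (Cn v) K).trans hdvd
      have h2 : (Cn v).relIndex K ∣ Nat.card K := Subgroup.relIndex_dvd_card _ _
      have h3 : (Cn v).relIndex K = 1 :=
        Nat.eq_one_of_dvd_coprimes (Nat.Coprime.pow_right j hKcop) h2 h1
      exact Subgroup.relIndex_eq_one.mp h3
  -- all elements of `K` are central in `K`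
  have hall : ∀ N : ℕ, ∀ g ∈ K, orderOf g = N → K ≤ Cn g := by
    intro N
    induction N using Nat.strong_induction_on with
    | _ N ih =>
      intro g hg hgN
      by_cases hpp : ∃ r k : ℕ, r.Prime ∧ N = r ^ k
      · obtain ⟨r, k, hr, hk⟩ := hpp
        exact hprim g hg ⟨r, k, hr, hgN.trans hk⟩
      · have hN1 : 1 < N := by
          have h0 : 0 < N := hgN ▸ orderOf_pos g
          by_contra hc
          have h1 : N = 1 := by omega
          exact hpp ⟨2, 0, Nat.prime_two, by rw [h1, pow_zero]⟩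
        obtain ⟨c1, c2, hcop12, hmul, hc1, hc2⟩ := exists_coprime_factors N hN1 hpp
        have ho1 : orderOf (g ^ c1) = c2 := by
          rw [orderOf_pow_of_dvd (by omega) (by rw [hgN, ← hmul]; exact dvd_mul_right _ _), hgN,
            ← hmul]
          exact Nat.mul_div_cancel_left c2 (by omega)
        have ho2 : orderOf (g ^ c2) = c1 := by
          rw [orderOf_pow_of_dvd (by omega) (by rw [hgN, ← hmul]; exact dvd_mul_left _ _), hgN,
            ← hmul]
          exact Nat.mul_div_cancel c1 (by omega)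
        have hlt1 : c2 < N := by nlinarith
        have hlt2 : c1 < N := by nlinarith
        have h1 := ih c2 hlt1 (g ^ c1) (Subgroup.pow_mem K hg c1) ho1
        have h2 := ih c1 hlt2 (g ^ c2) (Subgroup.pow_mem K hg c2) ho2
        intro x hx
        rw [mem_Cn_iff]
        have hx1 : Commute x (g ^ c1) := (mem_Cn_iff _ _).mp (h1 hx)
        have hx2 : Commute x (g ^ c2) := (mem_Cn_iff _ _).mp (h2 hx)
        have hb := Nat.gcd_eq_gcd_ab c1 c2
        rw [hcop12.gcd_eq_one] at hb
        have hg' : g = (g ^ c1) ^ (Nat.gcdA c1 c2) * (g ^ c2) ^ (Nat.gcdB c1 c2) := by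
          rw [← zpow_natCast g c1, ← zpow_natCast g c2, ← zpow_mul, ← zpow_mul, ← zpow_add, ← hb]
          simp
        have hxg : Commute x g := by
          rw [hg']
          exact (hx1.zpow_right _).mul_right (hx2.zpow_right _)
        exact hxg
  refine ⟨K, hKn, ⟨⟨fun x y => Subtype.ext
    ((mem_Cn_iff _ _).mp (hall _ (x : G) x.2 rfl y.2)).symm⟩⟩, ?_, ?_⟩
  · rw [hj]
    exact Nat.Coprime.pow_right j hKcop
  · rw [hKidx]
    obtain ⟨i, hi⟩ := IsPGroup.iff_card.mp P.isPGroup'
    rw [hi]
    exact Nat.Coprime.pow_left i hsn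

end Cfsg.Agent.Lib.Helper82.CS3
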